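import Mathlib
import Cfsg.Agent.TcData.HNK.Fin
import Cfsg.Agent.TcData.HNH.Common

set_option autoImplicit false
set_option Elab.async false
set_option maxRecDepth 100000
set_option linter.all false

namespace Cfsg.Agent.TcData.HNH.Kill

open Cfsg.Spor Cfsg.Agent.Lib.TcFacts Cfsg.Agent.Lib.TcBits Cfsg.Agent.Lib.TcPres Cfsg.Agent.Lib.TcRel Cfsg.Agent.Lib.TcChain Cfsg.Agent.Lib.TcLevels Cfsg.Agent.Lib.TcAbs Cfsg.Spor.HN Cfsg.Agent.TcData.HNH

open Cfsg.Agent.TcData.HNK (wW cW cS)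

theorem hKH : ∀ r ∈ Cfsg.Agent.TcData.HNK.RR, PresentedGroup.mk RR r = 1 :=
  mk_sub (by decide +kernel)

theorem fromK (w : FreeGroup Gen) (h : PresentedGroup.mk Cfsg.Agent.TcData.HNK.RR w = 1) :
    PresentedGroup.mk RR w = 1 := by
  rw [← piOf_mk hKH, h, map_one]

theorem relH {r : FreeGroup Gen} (h : r ∈ extraH) : PresentedGroup.mk RR r = 1 :=
  (QuotientGroup.eq_one_iff r).mpr (Subgroup.subset_normalClosure (Or.inr h))

local notation "M" => PresentedGroup.mk RR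

theorem cbar : M cW = 1 := by
  have hx4 : M x ^ 4 = 1 := by
    rw [← map_pow]; exact fromK _ Cfsg.Agent.TcData.HNK.Fin.x4
  have h3 : M cW ^ 3 = 1 := by
    rw [← map_pow]; exact fromK _ Cfsg.Agent.TcData.HNK.Fin.c3
  have hx : M x * M cW * (M x)⁻¹ = (M cW)⁻¹ := by
    have h := fromK _ Cfsg.Agent.TcData.HNK.Fin.cx
    rw [map_mul, map_mul, map_mul, map_inv] at h
    exact eq_inv_of_mul_eq_one_left h
  have hy : M y * M cW * (M y)⁻¹ = M cW := by
    have h := fromK _ Cfsg.Agent.TcData.HNK.Fin.cy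
    rw [map_mul, map_mul, map_mul, map_inv, map_inv] at h
    exact mul_inv_eq_one.mp h
  have r7 : (M z) ^ 2 = 1 := by
    rw [← map_pow]; exact relH (by decide +kernel)
  have r8 : (M z * M x) ^ 2 = 1 := by
    rw [← map_mul, ← map_pow]; exact relH (by decide +kernel)
  have r9 : (M z)⁻¹ * (M wW)⁻¹ * M z * M wW * (M x ^ 2)⁻¹ = 1 := by
    have h : M (z⁻¹ * wW⁻¹ * z * wW * (x ^ 2)⁻¹) = 1 := relH (by decide +kernel)
    simpa only [map_mul, map_inv, map_pow] using h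
  have r10 : M z * ((M y ^ 3 * M x * M y * M x * M y)⁻¹ * M z * (M y ^ 3 * M x * M y * M x * M y) * M x) ^ 3 = 1 := by
    have h : M (z * ((y ^ 3 * x * y * x * y)⁻¹ * z * (y ^ 3 * x * y * x * y) * x) ^ 3) = 1 :=
      relH (by decide +kernel)
    simpa only [map_mul, map_inv, map_pow] using h
  have he := conj_wx r7 r8 r9 hx4
  have hz : M z * M cW * (M z)⁻¹ = M cW := by
    have e : M cW = (M wW * M x) ^ 7 := by
      rw [Cfsg.Agent.TcData.HNK.cW, map_pow, map_mul]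
    rw [e, ← conj_pow, he]
  exact kill_three h3 hx hy hz r10

theorem cS_one : M cS = 1 := by
  have h := fromK _ Cfsg.Agent.TcData.HNK.Fin.cs
  rw [map_mul, map_inv, cbar, inv_one, mul_one] at h
  exact h

theorem hE2 : ∀ r ∈ extraH2, M r = 1 := by
  intro r hr
  rcases List.mem_append.mp hr with h | h
  · exact relH h
  · rw [List.mem_singleton.mp h]
    exact cS_one

theorem cardKimg : Nat.card (subOf RR Cfsg.Agent.TcData.HNK.Ch.SLt) ≠ 0 ∧
    Nat.card (subOf RR Cfsg.Agent.TcData.HNK.Ch.SLt) ≤ 504000 :=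
  card_subOf_le_of_ker hKH _ Cfsg.Agent.TcData.HNK.Fin.cmem Cfsg.Agent.TcData.HNK.Fin.cne
    (by rw [← map_pow]; exact Cfsg.Agent.TcData.HNK.Fin.c3)
    (by rw [piOf_mk]; exact cbar)
    (Cfsg.Agent.TcData.HNK.Fin.main.1.trans (by norm_num)) (by norm_num)

end Cfsg.Agent.TcData.HNH.Kill
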