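import Mathlib
import Cfsg.Prelude.Def_Spor_HN

set_option autoImplicit false
set_option Elab.async false
set_option maxRecDepth 100000
set_option linter.all false

namespace Cfsg.Agent.TcData.HNH

open Cfsg.Spor.HN

/-- The signed generator of a letter. -/
def letH : ℕ → Gen × Bool
  | 0 => (.x, true)
  | 1 => (.x, false)
  | 2 => (.y, true)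
  | 3 => (.y, false)
  | _ => (.z, true)

/-- The word of a list of letters. -/
def wOf (l : List ℕ) : FreeGroup Gen := FreeGroup.mk (l.map letH)

/-- Short relators. -/
def shortC : List (List ℕ) := [
  [0,0,0,0],
  [0,4,0,4],
  [0,0,0,4,1,4],
  [0,0,2,0,0,3],
  [0,0,2,1,1,3],
  [2,2,2,2,2,2],
  [0,0,2,0,4,1,4,3],
  [0,0,2,1,4,0,4,3],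
  [0,0,2,2,0,0,3,3],
  [0,0,2,2,1,1,3,3],
  [0,0,2,4,0,0,4,3],
  [0,0,2,4,0,4,1,3],
  [0,0,2,4,1,1,4,3],
  [0,0,2,4,1,4,0,3],
  [0,0,3,0,4,1,4,2],
  [0,0,3,1,4,0,4,2],
  [0,0,3,4,0,0,4,2],
  [0,0,3,4,0,4,1,2],
  [0,0,3,4,1,1,4,2],
  [0,0,3,4,1,4,0,2],
  [0,0,2,2,0,4,1,4,3,3],
  [0,0,2,2,1,4,0,4,3,3],
  [0,0,2,2,2,0,0,3,3,3],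
  [0,0,2,2,2,1,1,3,3,3],
  [0,0,2,2,4,0,0,4,3,3],
  [0,0,2,2,4,0,4,1,3,3],
  [0,0,2,2,4,1,1,4,3,3],
  [0,0,2,2,4,1,4,0,3,3],
  [0,0,2,4,2,0,0,3,4,3],
  [0,0,2,4,2,1,1,3,4,3],
  [0,0,2,4,3,0,0,2,4,3],
  [0,0,2,4,3,1,1,2,4,3],
  [0,0,3,3,0,4,1,4,2,2],
  [0,0,3,3,1,4,0,4,2,2],
  [0,0,3,3,4,0,0,4,2,2],
  [0,0,3,3,4,0,4,1,2,2],
  [0,0,3,3,4,1,1,4,2,2],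
  [0,0,3,3,4,1,4,0,2,2],
  [0,0,3,4,2,0,0,3,4,2],
  [0,0,3,4,2,1,1,3,4,2],
  [0,0,4,2,0,4,1,4,3,4],
  [0,0,4,2,1,4,0,4,3,4],
  [0,0,4,2,4,0,4,1,3,4],
  [0,0,4,2,4,1,4,0,3,4],
  [0,0,4,3,0,4,1,4,2,4],
  [0,0,4,3,1,4,0,4,2,4],
  [0,0,4,3,4,0,4,1,2,4],
  [0,0,4,3,4,1,4,0,2,4],
  [0,0,2,2,2,0,4,1,4,3,3,3],
  [0,0,2,2,2,1,4,0,4,3,3,3],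
  [0,0,2,2,2,4,0,4,1,3,3,3],
  [0,0,2,2,2,4,1,4,0,3,3,3],
  [0,0,2,2,4,2,0,0,3,4,3,3],
  [0,0,2,2,4,2,1,1,3,4,3,3],
  [0,0,2,2,4,3,0,0,2,4,3,3],
  [0,0,2,2,4,3,1,1,2,4,3,3],
  [0,0,2,4,2,0,4,1,4,3,4,3],
  [0,0,2,4,2,1,4,0,4,3,4,3],
  [0,0,2,4,2,2,0,0,3,3,4,3],
  [0,0,2,4,2,2,1,1,3,3,4,3],
  [0,0,2,4,2,4,0,0,4,3,4,3],
  [0,0,2,4,2,4,0,4,1,3,4,3],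
  [0,0,2,4,2,4,1,1,4,3,4,3],
  [0,0,2,4,2,4,1,4,0,3,4,3],
  [0,0,2,4,3,0,4,1,4,2,4,3],
  [0,0,2,4,3,1,4,0,4,2,4,3],
  [0,0,2,4,3,4,0,0,4,2,4,3],
  [0,0,2,4,3,4,0,4,1,2,4,3],
  [0,0,2,4,3,4,1,1,4,2,4,3],
  [0,0,2,4,3,4,1,4,0,2,4,3],
  [0,0,3,3,3,4,0,0,4,2,2,2],
  [0,0,3,3,3,4,1,1,4,2,2,2],
  [0,0,3,3,4,2,0,0,3,4,2,2],
  [0,0,3,3,4,2,1,1,3,4,2,2],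
  [0,0,3,4,2,0,4,1,4,3,4,2],
  [0,0,3,4,2,1,4,0,4,3,4,2],
  [0,0,3,4,2,4,0,0,4,3,4,2],
  [0,0,3,4,2,4,0,4,1,3,4,2],
  [0,0,3,4,2,4,1,1,4,3,4,2],
  [0,0,3,4,2,4,1,4,0,3,4,2],
  [0,0,3,4,3,0,4,1,4,2,4,2],
  [0,0,3,4,3,1,4,0,4,2,4,2],
  [0,0,3,4,3,4,0,0,4,2,4,2],
  [0,0,3,4,3,4,0,4,1,2,4,2],
  [0,0,3,4,3,4,1,1,4,2,4,2],
  [0,0,3,4,3,4,1,4,0,2,4,2],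
  [0,0,4,2,2,0,4,1,4,3,3,4],
  [0,0,4,2,2,1,4,0,4,3,3,4],
  [0,0,4,2,2,4,0,4,1,3,3,4],
  [0,0,4,2,2,4,1,4,0,3,3,4],
  [0,0,4,3,3,0,4,1,4,2,2,4],
  [0,0,4,3,3,1,4,0,4,2,2,4],
  [0,0,4,3,3,4,0,4,1,2,2,4],
  [0,0,4,3,3,4,1,4,0,2,2,4],
  [0,2,0,3,0,2,0,3,0,2,1,3],
  [0,2,0,3,0,2,0,3,1,2,0,3],
  [0,2,0,3,0,2,1,3,1,2,1,3],
  [0,2,0,3,1,2,0,3,1,2,1,3],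
  [0,2,0,3,1,2,1,3,0,2,1,3],
  [0,2,0,3,4,2,0,3,0,2,4,3],
  [0,2,0,3,4,2,1,3,1,2,4,3],
  [0,2,0,4,3,0,4,2,1,4,3,4],
  [0,2,0,4,3,0,4,2,4,0,3,4],
  [0,2,0,4,3,1,4,2,0,4,3,4],
  [0,2,0,4,3,1,4,2,4,1,3,4],
  [0,2,0,4,3,4,0,2,4,1,3,4],
  [0,2,0,4,3,4,1,2,4,0,3,4],
  [0,2,1,3,4,2,0,3,1,2,4,3],
  [0,2,1,3,4,2,1,3,0,2,4,3],
  [0,2,1,4,3,0,4,2,0,4,3,4],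
  [0,2,1,4,3,1,4,2,1,4,3,4],
  [0,2,1,4,3,4,0,2,4,0,3,4],
  [0,2,1,4,3,4,1,2,4,1,3,4],
  [0,2,4,0,3,0,4,2,0,4,3,4],
  [0,2,4,0,3,0,4,2,4,1,3,4],
  [0,2,4,0,3,4,1,2,0,4,3,4],
  [0,2,4,1,3,0,4,2,1,4,3,4],
  [0,2,4,1,3,0,4,2,4,0,3,4],
  [0,2,4,1,3,4,1,2,1,4,3,4],
  [0,2,4,3,1,2,0,3,4,2,1,3],
  [0,2,4,3,1,2,1,3,4,2,0,3],
  [0,2,4,3,4,2,1,3,4,2,4,3],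
  [0,3,0,4,2,1,4,3,0,4,2,4],
  [0,3,0,4,2,1,4,3,4,1,2,4],
  [0,3,0,4,2,4,0,3,4,1,2,4],
  [0,4,2,0,4,3,0,4,2,4,1,3],
  [0,4,2,0,4,3,4,1,2,0,4,3],
  [0,4,2,0,4,3,4,1,2,4,1,3],
  [2,4,3,4,2,4,3,4,2,4,3,4],
  [0,0,0,2,4,3,4,2,0,3,4,2,4,3],
  [0,0,0,3,4,2,4,3,0,2,4,3,4,2],
  [0,0,2,2,2,4,2,0,0,3,4,3,3,3],
  [0,0,2,2,2,4,2,1,1,3,4,3,3,3],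
  [0,0,2,2,2,4,3,0,0,2,4,3,3,3],
  [0,0,2,2,2,4,3,1,1,2,4,3,3,3],
  [0,0,2,2,4,2,0,4,1,4,3,4,3,3],
  [0,0,2,2,4,2,1,4,0,4,3,4,3,3],
  [0,0,2,2,4,2,2,0,0,3,3,4,3,3],
  [0,0,2,2,4,2,2,1,1,3,3,4,3,3],
  [0,0,2,2,4,2,4,0,0,4,3,4,3,3],
  [0,0,2,2,4,2,4,0,4,1,3,4,3,3],
  [0,0,2,2,4,2,4,1,1,4,3,4,3,3],
  [0,0,2,2,4,2,4,1,4,0,3,4,3,3],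
  [0,0,2,2,4,3,0,4,1,4,2,4,3,3],
  [0,0,2,2,4,3,1,4,0,4,2,4,3,3],
  [0,0,2,2,4,3,3,0,0,2,2,4,3,3],
  [0,0,2,2,4,3,3,1,1,2,2,4,3,3],
  [0,0,2,2,4,3,4,0,0,4,2,4,3,3],
  [0,0,2,2,4,3,4,0,4,1,2,4,3,3],
  [0,0,2,2,4,3,4,1,1,4,2,4,3,3],
  [0,0,2,2,4,3,4,1,4,0,2,4,3,3],
  [0,0,2,4,2,2,0,4,1,4,3,3,4,3],
  [0,0,2,4,2,2,1,4,0,4,3,3,4,3],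
  [0,0,2,4,2,2,2,0,0,3,3,3,4,3],
  [0,0,2,4,2,2,2,1,1,3,3,3,4,3],
  [0,0,2,4,2,2,4,0,0,4,3,3,4,3],
  [0,0,2,4,2,2,4,0,4,1,3,3,4,3],
  [0,0,2,4,2,2,4,1,1,4,3,3,4,3],
  [0,0,2,4,2,2,4,1,4,0,3,3,4,3],
  [0,0,2,4,2,4,2,0,0,3,4,3,4,3],
  [0,0,2,4,2,4,2,1,1,3,4,3,4,3],
  [0,0,2,4,2,4,3,0,0,2,4,3,4,3],
  [0,0,2,4,2,4,3,1,1,2,4,3,4,3],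
  [0,0,2,4,3,3,0,4,1,4,2,2,4,3],
  [0,0,2,4,3,3,1,4,0,4,2,2,4,3],
  [0,0,2,4,3,3,4,0,0,4,2,2,4,3],
  [0,0,2,4,3,3,4,0,4,1,2,2,4,3],
  [0,0,2,4,3,3,4,1,1,4,2,2,4,3],
  [0,0,2,4,3,3,4,1,4,0,2,2,4,3],
  [0,0,3,3,3,4,2,0,0,3,4,2,2,2],
  [0,0,3,3,3,4,2,1,1,3,4,2,2,2],
  [0,0,3,3,4,2,0,4,1,4,3,4,2,2],
  [0,0,3,3,4,2,1,4,0,4,3,4,2,2],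
  [0,0,3,3,4,2,2,0,0,3,3,4,2,2],
  [0,0,3,3,4,2,2,1,1,3,3,4,2,2],
  [0,0,3,3,4,2,4,0,0,4,3,4,2,2],
  [0,0,3,3,4,2,4,0,4,1,3,4,2,2],
  [0,0,3,3,4,2,4,1,1,4,3,4,2,2],
  [0,0,3,3,4,2,4,1,4,0,3,4,2,2],
  [0,0,3,3,4,3,0,4,1,4,2,4,2,2],
  [0,0,3,3,4,3,1,4,0,4,2,4,2,2],
  [0,0,3,3,4,3,4,0,0,4,2,4,2,2],
  [0,0,3,3,4,3,4,0,4,1,2,4,2,2],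
  [0,0,3,3,4,3,4,1,1,4,2,4,2,2],
  [0,0,3,3,4,3,4,1,4,0,2,4,2,2],
  [0,0,3,4,2,2,0,4,1,4,3,3,4,2],
  [0,0,3,4,2,2,1,4,0,4,3,3,4,2],
  [0,0,3,4,2,2,4,0,0,4,3,3,4,2],
  [0,0,3,4,2,2,4,0,4,1,3,3,4,2],
  [0,0,3,4,2,2,4,1,1,4,3,3,4,2],
  [0,0,3,4,2,2,4,1,4,0,3,3,4,2],
  [0,0,3,4,2,4,2,0,0,3,4,3,4,2],
  [0,0,3,4,2,4,2,1,1,3,4,3,4,2],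
  [0,0,3,4,3,3,0,4,1,4,2,2,4,2],
  [0,0,3,4,3,3,1,4,0,4,2,2,4,2],
  [0,0,3,4,3,3,4,0,0,4,2,2,4,2],
  [0,0,3,4,3,3,4,0,4,1,2,2,4,2],
  [0,0,3,4,3,3,4,1,1,4,2,2,4,2],
  [0,0,3,4,3,3,4,1,4,0,2,2,4,2],
  [0,0,4,2,2,2,0,4,1,4,3,3,3,4],
  [0,0,4,2,2,2,1,4,0,4,3,3,3,4],
  [0,0,4,2,2,2,4,0,4,1,3,3,3,4],
  [0,0,4,2,2,2,4,1,4,0,3,3,3,4],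
  [0,0,4,2,4,2,0,4,1,4,3,4,3,4],
  [0,0,4,2,4,2,1,4,0,4,3,4,3,4],
  [0,0,4,2,4,2,4,0,4,1,3,4,3,4],
  [0,0,4,2,4,2,4,1,4,0,3,4,3,4],
  [0,0,4,2,4,3,0,4,1,4,2,4,3,4],
  [0,0,4,2,4,3,1,4,0,4,2,4,3,4],
  [0,0,4,2,4,3,4,0,4,1,2,4,3,4],
  [0,0,4,2,4,3,4,1,4,0,2,4,3,4],
  [0,0,4,3,4,2,0,4,1,4,3,4,2,4],
  [0,0,4,3,4,2,1,4,0,4,3,4,2,4],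
  [0,0,4,3,4,2,4,0,4,1,3,4,2,4],
  [0,0,4,3,4,2,4,1,4,0,3,4,2,4],
  [0,0,4,3,4,3,0,4,1,4,2,4,2,4],
  [0,0,4,3,4,3,1,4,0,4,2,4,2,4],
  [0,0,4,3,4,3,4,0,4,1,2,4,2,4],
  [0,0,4,3,4,3,4,1,4,0,2,4,2,4],
  [0,2,0,3,0,2,4,0,4,3,1,2,1,3],
  [0,2,0,3,0,2,4,1,4,3,0,2,1,3],
  [0,2,0,3,0,4,2,0,3,0,2,4,1,3],
  [0,2,0,3,0,4,2,1,3,1,2,4,1,3],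
  [0,2,0,3,1,2,4,0,4,3,0,2,1,3],
  [0,2,0,3,1,2,4,1,4,3,1,2,1,3],
  [0,2,0,3,1,4,2,0,3,1,2,4,1,3],
  [0,2,0,3,1,4,2,1,3,0,2,4,1,3],
  [0,2,0,3,4,0,2,1,3,0,2,0,4,3],
  [0,2,0,3,4,0,4,2,0,3,1,2,1,3],
  [0,2,0,3,4,0,4,2,1,3,1,2,0,3],
  [0,2,0,3,4,1,2,0,3,0,2,0,4,3],
  [0,2,0,3,4,1,2,1,3,0,2,1,4,3],
  [0,2,0,3,4,1,4,2,0,3,1,2,0,3],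
  [0,2,0,3,4,2,0,3,4,1,4,2,4,3],
  [0,2,0,3,4,2,1,3,4,0,4,2,4,3],
  [0,2,0,3,4,2,4,0,4,3,1,2,4,3],
  [0,2,0,3,4,2,4,1,4,3,0,2,4,3],
  [0,2,0,4,3,0,2,1,3,4,1,2,1,3],
  [0,2,0,4,3,0,2,4,3,4,0,2,4,3],
  [0,2,0,4,3,1,2,0,3,4,1,2,1,3],
  [0,2,0,4,3,1,2,1,3,4,0,2,1,3],
  [0,2,0,4,3,1,2,1,3,4,1,2,0,3],
  [0,2,0,4,3,1,2,4,3,4,1,2,4,3],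
  [0,2,1,3,4,0,4,2,0,3,1,2,0,3],
  [0,2,1,3,4,1,2,0,3,0,2,1,4,3],
  [0,2,1,3,4,2,0,3,4,0,4,2,4,3],
  [0,2,1,3,4,2,0,4,3,4,2,1,3,4],
  [0,2,1,3,4,2,1,3,4,1,4,2,4,3],
  [0,2,1,3,4,2,4,0,4,3,0,2,4,3],
  [0,2,1,3,4,2,4,1,4,3,1,2,4,3],
  [0,2,1,4,3,0,2,4,3,4,1,2,4,3],
  [0,2,1,4,3,1,2,0,3,4,1,2,0,3],
  [0,2,1,4,3,1,2,1,3,4,1,2,1,3],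
  [0,2,2,0,2,4,3,0,3,3,0,3,4,2],
  [0,2,2,0,2,4,3,1,3,3,1,3,4,2],
  [0,2,2,1,2,4,3,0,3,3,1,3,4,2],
  [0,2,2,1,2,4,3,1,3,3,0,3,4,2],
  [0,2,4,0,4,3,4,2,1,3,0,2,4,3],
  [0,2,4,1,3,0,2,4,3,1,4,2,4,3],
  [0,2,4,1,4,3,4,2,0,3,0,2,4,3],
  [0,2,4,3,0,4,2,4,3,1,2,4,1,3],
  [0,2,4,3,1,2,0,3,4,2,4,0,4,3],
  [0,2,4,3,1,2,1,3,4,2,4,1,4,3],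
  [0,2,4,3,1,3,3,0,3,4,2,1,2,2],
  [0,2,4,3,4,0,4,2,0,3,4,2,1,3],
  [0,2,4,3,4,0,4,2,1,3,4,2,0,3],
  [0,2,4,3,4,1,4,2,0,3,4,2,0,3],
  [0,2,4,3,4,1,4,2,1,3,4,2,1,3],
  [0,2,4,3,4,2,1,4,3,4,2,4,3,4],
  [0,2,4,3,4,2,4,0,4,3,4,2,4,3],
  [0,3,0,4,2,0,3,4,2,4,0,3,4,2],
  [0,3,0,4,2,1,3,4,2,4,1,3,4,2],
  [0,3,3,0,3,4,2,1,2,2,1,2,4,3],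
  [0,3,4,1,2,0,3,4,2,1,4,3,4,2],
  [0,3,4,2,0,4,3,4,2,1,3,4,1,2],
  [0,3,4,2,4,3,4,0,4,2,4,3,4,2],
  [0,4,2,4,3,4,2,4,1,3,4,2,4,3],
  [0,0,0,2,4,3,4,2,4,1,4,3,4,2,4,3],
  [0,0,0,3,4,2,4,3,4,1,4,2,4,3,4,2],
  [0,0,2,0,2,4,3,4,2,0,3,4,2,4,3,3],
  [0,0,2,1,2,4,3,4,2,1,3,4,2,4,3,3],
  [0,0,2,2,2,4,2,0,4,1,4,3,4,3,3,3],
  [0,0,2,2,2,4,2,1,4,0,4,3,4,3,3,3],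
  [0,0,2,2,2,4,2,2,0,0,3,3,4,3,3,3],
  [0,0,2,2,2,4,2,2,1,1,3,3,4,3,3,3],
  [0,0,2,2,2,4,2,4,0,4,1,3,4,3,3,3],
  [0,0,2,2,2,4,2,4,1,4,0,3,4,3,3,3],
  [0,0,2,2,2,4,3,0,4,1,4,2,4,3,3,3],
  [0,0,2,2,2,4,3,1,4,0,4,2,4,3,3,3],
  [0,0,2,2,2,4,3,3,0,0,2,2,4,3,3,3],
  [0,0,2,2,2,4,3,3,1,1,2,2,4,3,3,3],
  [0,0,2,2,2,4,3,4,0,4,1,2,4,3,3,3],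
  [0,0,2,2,2,4,3,4,1,4,0,2,4,3,3,3],
  [0,0,2,2,4,2,2,0,4,1,4,3,3,4,3,3],
  [0,0,2,2,4,2,2,1,4,0,4,3,3,4,3,3],
  [0,0,2,2,4,2,2,2,0,0,3,3,3,4,3,3],
  [0,0,2,2,4,2,2,2,1,1,3,3,3,4,3,3],
  [0,0,2,2,4,2,2,4,0,0,4,3,3,4,3,3],
  [0,0,2,2,4,2,2,4,0,4,1,3,3,4,3,3],
  [0,0,2,2,4,2,2,4,1,1,4,3,3,4,3,3],
  [0,0,2,2,4,2,2,4,1,4,0,3,3,4,3,3],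
  [0,0,2,2,4,2,4,2,0,0,3,4,3,4,3,3],
  [0,0,2,2,4,2,4,2,1,1,3,4,3,4,3,3],
  [0,0,2,2,4,2,4,3,0,0,2,4,3,4,3,3],
  [0,0,2,2,4,2,4,3,1,1,2,4,3,4,3,3],
  [0,0,2,2,4,3,3,0,4,1,4,2,2,4,3,3],
  [0,0,2,2,4,3,3,1,4,0,4,2,2,4,3,3],
  [0,0,2,2,4,3,3,4,0,0,4,2,2,4,3,3],
  [0,0,2,2,4,3,3,4,0,4,1,2,2,4,3,3],
  [0,0,2,2,4,3,3,4,1,1,4,2,2,4,3,3],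
  [0,0,2,2,4,3,3,4,1,4,0,2,2,4,3,3],
  [0,0,2,2,4,3,4,2,0,0,3,4,2,4,3,3],
  [0,0,2,2,4,3,4,2,0,3,4,2,4,3,0,3],
  [0,0,2,2,4,3,4,2,1,1,3,4,2,4,3,3],
  [0,0,2,2,4,3,4,2,1,3,4,2,4,3,1,3],
  [0,0,2,2,4,3,4,3,0,0,2,4,2,4,3,3],
  [0,0,2,2,4,3,4,3,1,1,2,4,2,4,3,3],
  [0,0,2,4,2,2,2,0,4,1,4,3,3,3,4,3],
  [0,0,2,4,2,2,2,1,4,0,4,3,3,3,4,3],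
  [0,0,2,4,2,2,2,4,0,4,1,3,3,3,4,3],
  [0,0,2,4,2,2,2,4,1,4,0,3,3,3,4,3],
  [0,0,2,4,2,2,4,2,0,0,3,4,3,3,4,3],
  [0,0,2,4,2,2,4,2,1,1,3,4,3,3,4,3],
  [0,0,2,4,2,2,4,3,0,0,2,4,3,3,4,3],
  [0,0,2,4,2,2,4,3,1,1,2,4,3,3,4,3],
  [0,0,2,4,2,4,2,0,4,1,4,3,4,3,4,3],
  [0,0,2,4,2,4,2,1,4,0,4,3,4,3,4,3],
  [0,0,2,4,2,4,2,2,0,0,3,3,4,3,4,3],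
  [0,0,2,4,2,4,2,2,1,1,3,3,4,3,4,3],
  [0,0,2,4,2,4,2,4,0,0,4,3,4,3,4,3],
  [0,0,2,4,2,4,2,4,0,4,1,3,4,3,4,3],
  [0,0,2,4,2,4,2,4,1,1,4,3,4,3,4,3],
  [0,0,2,4,2,4,2,4,1,4,0,3,4,3,4,3],
  [0,0,2,4,2,4,3,0,4,1,4,2,4,3,4,3],
  [0,0,2,4,2,4,3,1,4,0,4,2,4,3,4,3],
  [0,0,2,4,2,4,3,4,0,0,4,2,4,3,4,3],
  [0,0,2,4,2,4,3,4,0,4,1,2,4,3,4,3],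
  [0,0,2,4,2,4,3,4,1,1,4,2,4,3,4,3],
  [0,0,2,4,2,4,3,4,1,4,0,2,4,3,4,3],
  [0,0,2,4,3,3,3,4,0,0,4,2,2,2,4,3],
  [0,0,2,4,3,3,3,4,1,1,4,2,2,2,4,3],
  [0,0,2,4,3,3,4,2,0,0,3,4,2,2,4,3],
  [0,0,2,4,3,3,4,2,1,1,3,4,2,2,4,3],
  [0,0,2,4,3,4,2,2,0,0,3,3,4,2,4,3],
  [0,0,2,4,3,4,2,2,1,1,3,3,4,2,4,3],
  [0,0,2,4,3,4,3,0,4,1,4,2,4,2,4,3],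
  [0,0,2,4,3,4,3,1,4,0,4,2,4,2,4,3],
  [0,0,2,4,3,4,3,4,0,0,4,2,4,2,4,3],
  [0,0,2,4,3,4,3,4,0,4,1,2,4,2,4,3],
  [0,0,2,4,3,4,3,4,1,1,4,2,4,2,4,3],
  [0,0,2,4,3,4,3,4,1,4,0,2,4,2,4,3],
  [0,0,3,0,3,4,2,4,3,0,2,4,3,4,2,2],
  [0,0,3,1,3,4,2,4,3,1,2,4,3,4,2,2],
  [0,0,3,3,3,4,2,2,0,0,3,3,4,2,2,2],
  [0,0,3,3,3,4,2,2,1,1,3,3,4,2,2,2],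
  [0,0,3,3,3,4,2,4,0,0,4,3,4,2,2,2],
  [0,0,3,3,3,4,2,4,1,1,4,3,4,2,2,2],
  [0,0,3,3,3,4,3,4,0,0,4,2,4,2,2,2],
  [0,0,3,3,3,4,3,4,1,1,4,2,4,2,2,2],
  [0,0,3,3,4,2,2,0,4,1,4,3,3,4,2,2],
  [0,0,3,3,4,2,2,1,4,0,4,3,3,4,2,2],
  [0,0,3,3,4,2,2,4,0,0,4,3,3,4,2,2],
  [0,0,3,3,4,2,2,4,0,4,1,3,3,4,2,2],
  [0,0,3,3,4,2,2,4,1,1,4,3,3,4,2,2],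
  [0,0,3,3,4,2,2,4,1,4,0,3,3,4,2,2],
  [0,0,3,3,4,2,4,2,0,0,3,4,3,4,2,2],
  [0,0,3,3,4,2,4,2,1,1,3,4,3,4,2,2],
  [0,0,3,3,4,2,4,3,0,2,4,3,4,2,0,2],
  [0,0,3,3,4,2,4,3,1,2,4,3,4,2,1,2],
  [0,0,3,3,4,3,3,0,4,1,4,2,2,4,2,2],
  [0,0,3,3,4,3,3,1,4,0,4,2,2,4,2,2],
  [0,0,3,3,4,3,3,4,0,0,4,2,2,4,2,2],
  [0,0,3,3,4,3,3,4,0,4,1,2,2,4,2,2],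
  [0,0,3,3,4,3,3,4,1,1,4,2,2,4,2,2],
  [0,0,3,3,4,3,3,4,1,4,0,2,2,4,2,2],
  [0,0,3,3,4,3,4,2,0,0,3,4,2,4,2,2],
  [0,0,3,3,4,3,4,2,1,1,3,4,2,4,2,2],
  [0,0,3,4,2,2,2,0,4,1,4,3,3,3,4,2],
  [0,0,3,4,2,2,2,1,4,0,4,3,3,3,4,2],
  [0,0,3,4,2,2,2,4,0,4,1,3,3,3,4,2],
  [0,0,3,4,2,2,2,4,1,4,0,3,3,3,4,2],
  [0,0,3,4,2,2,4,2,0,0,3,4,3,3,4,2],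
  [0,0,3,4,2,2,4,2,1,1,3,4,3,3,4,2],
  [0,0,3,4,2,4,2,0,4,1,4,3,4,3,4,2],
  [0,0,3,4,2,4,2,1,4,0,4,3,4,3,4,2],
  [0,0,3,4,2,4,2,4,0,0,4,3,4,3,4,2],
  [0,0,3,4,2,4,2,4,0,4,1,3,4,3,4,2],
  [0,0,3,4,2,4,2,4,1,1,4,3,4,3,4,2],
  [0,0,3,4,2,4,2,4,1,4,0,3,4,3,4,2],
  [0,0,3,4,3,3,3,4,0,0,4,2,2,2,4,2],
  [0,0,3,4,3,3,3,4,1,1,4,2,2,2,4,2],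
  [0,0,3,4,3,4,2,0,4,1,4,3,4,2,4,2],
  [0,0,3,4,3,4,2,1,4,0,4,3,4,2,4,2],
  [0,0,3,4,3,4,2,4,0,0,4,3,4,2,4,2],
  [0,0,3,4,3,4,2,4,0,4,1,3,4,2,4,2],
  [0,0,3,4,3,4,2,4,1,1,4,3,4,2,4,2],
  [0,0,3,4,3,4,2,4,1,4,0,3,4,2,4,2],
  [0,0,3,4,3,4,3,0,4,1,4,2,4,2,4,2],
  [0,0,3,4,3,4,3,1,4,0,4,2,4,2,4,2],
  [0,0,3,4,3,4,3,4,0,0,4,2,4,2,4,2]]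

/-- Short relators, as words. -/
def shortL : List (FreeGroup Gen) := shortC.map wOf

end Cfsg.Agent.TcData.HNH
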