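import Mathlib
import Cfsg.Agent.TcData.HNH.ShortW
import Cfsg.Agent.TcData.HNH.V.Rep
import Cfsg.Agent.TcData.HNH.Ch.Low
import Cfsg.Agent.TcData.HNH.R2.Up

set_option autoImplicit false
set_option Elab.async false
set_option maxRecDepth 100000
set_option linter.all false

namespace Cfsg.Agent.TcData.HNH.Fin

open Cfsg.Spor Cfsg.Agent.Lib.TcFacts Cfsg.Agent.Lib.TcBits Cfsg.Agent.Lib.TcPres Cfsg.Agent.Lib.TcRel Cfsg.Agent.Lib.TcChain Cfsg.Agent.Lib.TcLevels Cfsg.Spor.HN Cfsg.Agent.TcData.HNH Cfsg.Agent.TcData.HNH.V Cfsg.Agent.TcData.HNH.Ch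

theorem up : Nat.card (subOf RR SLt) ≠ 0 ∧ Nat.card (subOf RR SLt) ≤ 177408000 := by
  have h := tower_step R2.hTS Kill.cardKimg R2.relIndex_le'
  norm_num at h
  exact h

theorem main : Nat.card (subOf RR SLt) = 177408000 ∧ Set.InjOn Phi (subOf RR SLt) :=
  card_eq_of_bounds_sub Phi _ up hK low

theorem hshW : ∀ r ∈ shortL, ∀ p ∈ r.toWord, p.1 ∈ SLt := by decide +kernel

theorem hshS : ∀ r ∈ shortL, ∀ j, j < 11 → wordApply (sgnProg pr) r.toWord (slice 11 j) = slice 11 j := by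
  decide +kernel

theorem hshort : ∀ r ∈ shortL, PresentedGroup.mk RR r = 1 := fun r hr =>
  mk_eq_one_of_slices hR hv main.2 (hshW r hr) (hshS r hr)

end Cfsg.Agent.TcData.HNH.Fin
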